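import Cfsg.Agent.H466.KKL.A12
import Cfsg.Agent.H613.KS.Props

/-!
# S4577, A1 and A2 (helper466): the 16-version of `H466/KKL/A12.lean`
-/

set_option autoImplicit false
set_option linter.unusedSectionVars false

open Cfsg Cfsg.Agent.H613.KS

universe u

namespace Cfsg.Agent.H466.KS

open Cfsg.Agent.H644 Cfsg.Agent.Blocks.Local Cfsg.Agent.H648.Dict Cfsg.Agent.H466.KKL

section A

variable {G : Type u} [Group G] [Finite G] {M : Ideal AlgInt} (hM : IsPModular 2 M) {B : Set (IrrCharacter G)}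
  (hB : IsPBlock M B) {D : Subgroup G} (hD : IsDefectGroup 2 M B D) (h8 : E16 D)
include hM hB hD h8

/-- A1: defect classes are 2-regular (Osima) + Sylow. -/
theorem A1 : ∃ x : G, Odd (orderOf x) ∧ (∀ d ∈ D, d * x = x * d) ∧ ∀ Q : Subgroup G, IsPGroup 2 Q →
    (∀ q ∈ Q, q * x = x * q) → ∃ c : G, c * x = x * c ∧ ∀ q ∈ Q, c * q * c⁻¹ ∈ D := by
  obtain ⟨x, hx, P, hP⟩ := hD
  refine ⟨x, ?_, ?_, ?_⟩
  · rw [← Nat.not_even_iff_odd, even_iff_two_dvd]
    exact not_dvd_orderOf hM hB hx.2.1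
  · intro d hd
    rw [hP] at hd
    obtain ⟨y, -, rfl⟩ := hd
    exact Subgroup.mem_centralizer_singleton_iff.1 y.2
  · intro Q hQ hQx
    have hle : Q ≤ Subgroup.centralizer ({x} : Set G) := fun q hq =>
      Subgroup.mem_centralizer_singleton_iff.2 (hQx q hq)
    have hQ' : IsPGroup 2 (Q.subgroupOf (Subgroup.centralizer ({x} : Set G))) := hQ.comap_subtype
    obtain ⟨S, hS⟩ := hQ'.exists_le_sylow
    obtain ⟨c, hc⟩ := MulAction.exists_smul_eq (Subgroup.centralizer ({x} : Set G)) S P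
    refine ⟨c, Subgroup.mem_centralizer_singleton_iff.1 c.2, fun q hq => ?_⟩
    rw [hP]
    refine ⟨c * ⟨q, hle hq⟩ * c⁻¹, ?_, rfl⟩
    rw [← hc]
    have h1 : (⟨q, hle hq⟩ : Subgroup.centralizer ({x} : Set G)) ∈ (S : Subgroup _) :=
      hS (Subgroup.mem_subgroupOf.2 hq)
    have h2 := Subgroup.smul_mem_pointwise_smul _ (MulAut.conj c) _ h1
    exact h2

/-- A2: normal 2-subgroups of `C_G(R)`, `R ≤ D`, lie in `D`. -/
theorem A2 : ∀ R : Subgroup G, R ≤ D → ∀ N : Subgroup G, IsPGroup 2 N →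
    N ≤ Subgroup.centralizer (R : Set G) →
    (∀ c ∈ Subgroup.centralizer (R : Set G), ∀ n ∈ N, c * n * c⁻¹ ∈ N) → N ≤ D := by
  classical
  have hf : Fact (Nat.Prime 2) := ⟨Nat.prime_two⟩
  have hMp : M.IsPrime := isPrime_of_isPModular hM
  have := charP_resField hM
  intro R hR N hN hNR hNn
  have hDp : IsPGroup 2 D := Cfsg.Agent.Blocks.Basic.isPGroup_of_isDefectGroup hD
  have hRp : IsPGroup 2 R := hDp.to_le hR
  -- `D` is abelian
  have hab : ∀ a ∈ D, ∀ b ∈ D, a * b = b * a := by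
    intro a ha b hb
    have h1 := h8.inv _ (D.mul_mem ha hb)
    have h2 := h8.inv _ ha
    have h3 := h8.inv _ hb
    have e1 : a⁻¹ = a := inv_eq_of_mul_eq_one_left h2
    have e2 : b⁻¹ = b := inv_eq_of_mul_eq_one_left h3
    have e3 : (a * b)⁻¹ = a * b := inv_eq_of_mul_eq_one_left h1
    rw [mul_inv_rev, e1, e2] at e3
    exact e3.symm
  have hDR : D ≤ Subgroup.centralizer (R : Set G) := fun d hd =>
    Subgroup.mem_centralizer_iff.2 fun r hr => hab r (hR hr) d hd
  -- an element of the support of `e_B` in `C_G(D)`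
  obtain ⟨c, hc⟩ : ∃ c, (br D (idem M B)).coeff c ≠ 0 := by
    by_contra hcon
    push Not at hcon
    exact br_idem_ne_zero hM hB hD (ext_coeff fun g => by rw [hcon]; rfl)
  rw [coeff_br] at hc
  have hcR : (c : G) ∈ Subgroup.centralizer (R : Set G) := centralizer_mono hR c.2
  -- the image of `e_B` under the Brauer map at `R`
  have hU := isUnion_of_isPBlock hB
  have heR : IsCls (br R (idem M B)) := isCls_br_of_isCls (isCls_idem B)
  have heR2 : br R (idem M B) * br R (idem M B) = br R (idem M B) := by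
    rw [← br_mul hRp (isInv_of_isCls (isCls_idem B) R) (isInv_of_isCls (isCls_idem B) R),
      idem_mul_self hM hU]
  have hNnorm : (N.subgroupOf (Subgroup.centralizer (R : Set G))).Normal := by
    constructor
    intro n hn g
    exact hNn g g.2 n hn
  have hNp : IsPGroup 2 (N.subgroupOf (Subgroup.centralizer (R : Set G))) := hN.comap_subtype
  have hcN := supp_idem hM hNp heR heR2 (h := ⟨c, hcR⟩) (by rw [coeff_br]; exact hc)
  -- `D N` is a 2-group centralizing `c`
  have hnorm : D ≤ Subgroup.normalizer (N : Set G) := by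
    intro d hd
    rw [Subgroup.mem_normalizer_iff]
    intro n
    refine ⟨fun hn => hNn d (hDR hd) n hn, fun hn => ?_⟩
    have h1 := hNn d⁻¹ (Subgroup.inv_mem _ (hDR hd)) _ hn
    simpa [mul_assoc] using h1
  have hP : IsPGroup 2 (D ⊔ N : Subgroup G) := hDp.to_sup_of_normal_right' hN hnorm
  have hcP : (c : G) ∈ Subgroup.centralizer ((D ⊔ N : Subgroup G) : Set G) := by
    have h1 : D ⊔ N ≤ Subgroup.centralizer ({(c : G)} : Set G) := by
      refine sup_le (fun d hd => ?_) fun n hn => ?_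
      · exact Subgroup.mem_centralizer_singleton_iff.2 (Subgroup.mem_centralizer_iff.1 c.2 d hd)
      · have h2 := Subgroup.mem_centralizer_iff.1 hcN ⟨n, hNR hn⟩ (Subgroup.mem_subgroupOf.2 hn)
        exact Subgroup.mem_centralizer_singleton_iff.2 (congrArg Subtype.val h2)
    rw [Subgroup.mem_centralizer_iff]
    intro y hy
    exact Subgroup.mem_centralizer_singleton_iff.1 (h1 hy)
  have hbr : br (D ⊔ N) (idem M B) ≠ 0 := by
    intro h
    apply hc
    have h1 := congrArg (fun z => z.coeff ⟨(c : G), hcP⟩) h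
    simpa using h1
  obtain ⟨x, hx⟩ := (br_idem_ne_zero_iff hM hB hD hP).1 hbr
  have h5 : Nat.card ((D ⊔ N : Subgroup G).map (MulAut.conj x).toMonoidHom : Subgroup G) =
      Nat.card (D ⊔ N : Subgroup G) :=
    Nat.card_congr ((D ⊔ N).equivMapOfInjective _ (MulAut.conj x).injective).symm.toEquiv
  have h6 : Nat.card (D ⊔ N : Subgroup G) ≤ Nat.card D := by
    rw [← h5]
    exact Subgroup.card_le_of_le hx
  have h7 : D = D ⊔ N := Subgroup.eq_of_le_of_card_ge le_sup_left h6
  rw [h7]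
  exact le_sup_right

end A

/-- **PA1** -/
theorem PA1 : Cfsg.Agent.H613.KS.Props.PA1.{u} := fun hM _ hB _ hD h16 => A1 hM hB hD h16

/-- **PA2** -/
theorem PA2 : Cfsg.Agent.H613.KS.Props.PA2.{u} := fun hM _ hB _ hD h16 => A2 hM hB hD h16

end Cfsg.Agent.H466.KS
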